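import Groth.Prelude.Def_MoreMor
import Groth.Agent.S1327
import Groth.Agent.Flat2B.SmoothGeom
import Mathlib.AlgebraicGeometry.Morphisms.Smooth
import Mathlib.AlgebraicGeometry.Morphisms.AffineAnd

/-!
# Neighbourhoods of a section made of fibrewise connected pieces

* `sectionComponents_subset_preimage` : functoriality of section components;
* `isOpen_sectionComponents` : for `f` smooth, quasi-compact and quasi-separated, the section components are open;
* `exists_nhd` : if `f : X ⟶ Y` has a section `s` and is smooth on an open `U` containing the section,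
  then `s y` has an open neighbourhood `V` contained in `U` and in the section components of `f`.
-/

set_option autoImplicit false

universe u

open CategoryTheory AlgebraicGeometry Limits

namespace Groth.Agent.Sga3.H778.SecNbhd

/-- Section components are mapped into section components. -/
theorem sectionComponents_subset_preimage {X Y X' Y' : Scheme.{u}} (f : X ⟶ Y) (s : Y ⟶ X)
    (f' : X' ⟶ Y') (s' : Y' ⟶ X') (j : X' ⟶ X) (i : Y' ⟶ Y) (hj : j ≫ f = f' ≫ i)
    (hs : s' ≫ j = i ≫ s) (hs' : s' ≫ f' = 𝟙 Y') :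
    MoreMor.sectionComponents f' s' ⊆ j ⁻¹' MoreMor.sectionComponents f s := by
  have hfg (x' : X') : f (j x') = i (f' x') := by
    rw [← Scheme.Hom.comp_apply, ← Scheme.Hom.comp_apply, hj]
  have hsg (y' : Y') : j (s' y') = s (i y') := by
    rw [← Scheme.Hom.comp_apply, ← Scheme.Hom.comp_apply, hs]
  have hsf' (y' : Y') : f' (s' y') = y' := by
    rw [← Scheme.Hom.comp_apply, hs']; rfl
  intro x' hx'
  have h : x' ∈ connectedComponentIn (f' ⁻¹' {f' x'}) (s' (f' x')) := hx'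
  change j x' ∈ connectedComponentIn (f ⁻¹' {f (j x')}) (s (f (j x')))
  rw [hfg]
  have h1 : _root_.IsPreconnected (j '' (connectedComponentIn (f' ⁻¹' {f' x'}) (s' (f' x')))) :=
    isPreconnected_connectedComponentIn.image _ j.continuous.continuousOn
  refine (h1.subset_connectedComponentIn (x := s (i (f' x'))) ?_ ?_) ⟨x', h, rfl⟩
  · refine ⟨s' (f' x'), mem_connectedComponentIn ?_, hsg _⟩
    exact hsf' _
  · rintro _ ⟨w, hw, rfl⟩
    have := connectedComponentIn_subset _ _ hw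
    simp only [Set.mem_preimage, Set.mem_singleton_iff] at this ⊢
    rw [hfg, this]

/-- The section components of a smooth, quasi-compact and quasi-separated morphism are open. -/
theorem isOpen_sectionComponents {X Y : Scheme.{u}} (f : X ⟶ Y) (s : Y ⟶ X) (hs : s ≫ f = 𝟙 Y)
    [Smooth f] [QuasiCompact f] [QuasiSeparated f] : IsOpen (MoreMor.sectionComponents f s) := by
  rw [← subset_interior_iff_isOpen]
  intro x hx
  have hsm : Smooth (f.fiberToSpecResidueField (f x)) :=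
    inferInstanceAs (Smooth (pullback.snd f (Y.fromSpecResidueField (f x))))
  have hy : GeometricallyReduced (f.fiberToSpecResidueField (f x)) :=
    Groth.Agent.Flat2B.SmoothGeom.geometricallyReduced_of_smooth _
  exact Groth.Agent.S1327.result f s hs (f x) hy hx

lemma smooth_of_range_subset {X Y W : Scheme.{u}} (f : X ⟶ Y) (P : X.Opens) [Smooth (P.ι ≫ f)]
    (j : W ⟶ X) [IsOpenImmersion j] (h : Set.range j ⊆ P) : Smooth (j ≫ f) := by
  have h' : Set.range j ⊆ Set.range P.ι := by rwa [Scheme.Opens.range_ι]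
  have h1 : IsOpenImmersion (IsOpenImmersion.lift P.ι j h' ≫ P.ι) := by
    rw [IsOpenImmersion.lift_fac]; infer_instance
  have h2 : IsOpenImmersion (IsOpenImmersion.lift P.ι j h') := IsOpenImmersion.of_comp _ P.ι
  rw [← IsOpenImmersion.lift_fac P.ι j h', Category.assoc]
  infer_instance

lemma smooth_of_forall_exists {X Y : Scheme.{u}} (f : X ⟶ Y)
    (h : ∀ x : X, ∃ V : X.Opens, x ∈ V ∧ Smooth (V.ι ≫ f)) : Smooth f := by
  choose V hxV hV using h
  refine IsZariskiLocalAtSource.of_iSup_eq_top (P := @Smooth) V ?_ hV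
  rw [eq_top_iff]
  rintro x -
  rw [TopologicalSpace.Opens.mem_iSup]
  exact ⟨x, hxV x⟩

/-- Near the section, a smooth morphism has open pieces contained in the section components. -/
theorem exists_nhd_of_smooth {X Y : Scheme.{u}} (f : X ⟶ Y) (s : Y ⟶ X) (hs : s ≫ f = 𝟙 Y)
    [Smooth f] (y : Y) :
    ∃ V : X.Opens, s y ∈ V ∧ (V : Set X) ⊆ MoreMor.sectionComponents f s := by
  have hsf (y : Y) : f (s y) = y := by
    rw [← Scheme.Hom.comp_apply, hs]; rfl
  obtain ⟨S₁, hS₁, hyS₁, -⟩ := exists_isAffineOpen_mem_and_subset (show y ∈ (⊤ : Y.Opens) from trivial)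
  obtain ⟨W, hW, hyW, hWU⟩ := exists_isAffineOpen_mem_and_subset
    (show s y ∈ (f ⁻¹ᵁ S₁ : X.Opens) from by rw [Scheme.Hom.mem_preimage, hsf]; exact hyS₁)
  have hW' : IsAffine (W : Scheme.{u}) := hW
  have hS₁' : IsAffine (S₁ : Scheme.{u}) := hS₁
  let g : (W : Scheme.{u}) ⟶ S₁ := f.resLE S₁ W hWU
  have hg : g ≫ S₁.ι = W.ι ≫ f := Scheme.Hom.resLE_comp_ι _ _
  let S₂ : (S₁ : Scheme.{u}).Opens := (S₁.ι ≫ s) ⁻¹ᵁ W
  let g' := g ∣_ S₂
  let j : ((g ⁻¹ᵁ S₂ : (W : Scheme.{u}).Opens) : Scheme.{u}) ⟶ X := (g ⁻¹ᵁ S₂).ι ≫ W.ι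
  let i : (S₂ : Scheme.{u}) ⟶ Y := S₂.ι ≫ S₁.ι
  have hj : j ≫ f = g' ≫ i := by
    rw [Category.assoc, ← hg, ← Category.assoc, ← Category.assoc]
    rw [morphismRestrict_ι]
  have hrange : Set.range (i ≫ s) ⊆ Set.range j := by
    rintro _ ⟨z, rfl⟩
    have h1 : s (i z) ∈ W := z.2
    have h2 : g ⟨s (i z), h1⟩ = S₂.ι z := by
      apply S₁.ι.isOpenEmbedding.injective
      rw [← Scheme.Hom.comp_apply, hg, Scheme.Hom.comp_apply]
      exact hsf _
    refine ⟨⟨⟨s (i z), h1⟩, ?_⟩, rfl⟩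
    rw [Scheme.Hom.mem_preimage, h2]
    exact z.2
  let s' : (S₂ : Scheme.{u}) ⟶ (g ⁻¹ᵁ S₂ : (W : Scheme.{u}).Opens) :=
    IsOpenImmersion.lift j (i ≫ s) hrange
  have hs'j : s' ≫ j = i ≫ s := IsOpenImmersion.lift_fac _ _ _
  have hs' : s' ≫ g' = 𝟙 _ := by
    rw [← cancel_mono i, Category.assoc, ← hj, reassoc_of% hs'j, hs]
    simp
  have hgaff : IsAffineHom g := inferInstance
  have hg'aff : IsAffineHom g' := IsZariskiLocalAtTarget.restrict (P := @IsAffineHom) hgaff S₂
  have hopen := isOpen_sectionComponents g' s' hs'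
  let V₀ : ((g ⁻¹ᵁ S₂ : (W : Scheme.{u}).Opens) : Scheme.{u}).Opens := ⟨_, hopen⟩
  refine ⟨j ''ᵁ V₀, ?_, ?_⟩
  · let z : S₂ := ⟨⟨y, hyS₁⟩, hyW⟩
    refine ⟨s' z, ?_, ?_⟩
    · change s' z ∈ connectedComponentIn (g' ⁻¹' {g' (s' z)}) (s' (g' (s' z)))
      have h : g' (s' z) = z := by
        rw [← Scheme.Hom.comp_apply, hs']; rfl
      rw [h]
      exact mem_connectedComponentIn h
    · change j (s' z) = _
      rw [← Scheme.Hom.comp_apply, hs'j]
      rfl
  · rintro _ ⟨x, hx, rfl⟩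
    exact sectionComponents_subset_preimage f s g' s' j i hj hs'j hs' hx

/-- Near the section, a morphism which is smooth along the section has open pieces contained in the
section components. -/
theorem exists_nhd {X Y : Scheme.{u}} (f : X ⟶ Y) (s : Y ⟶ X) (hs : s ≫ f = 𝟙 Y) (U : X.Opens)
    [Smooth (U.ι ≫ f)] (hU : ∀ y, s y ∈ U) (y : Y) :
    ∃ V : X.Opens, s y ∈ V ∧ V ≤ U ∧ (V : Set X) ⊆ MoreMor.sectionComponents f s := by
  have hr : Set.range s ⊆ Set.range U.ι := by
    rw [Scheme.Opens.range_ι]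
    rintro _ ⟨z, rfl⟩
    exact hU z
  let s' : Y ⟶ U := IsOpenImmersion.lift U.ι s hr
  have hs' : s' ≫ U.ι = s := IsOpenImmersion.lift_fac _ _ _
  have hs'' : s' ≫ U.ι ≫ f = 𝟙 Y := by rw [reassoc_of% hs', hs]
  obtain ⟨V, hyV, hV⟩ := exists_nhd_of_smooth (U.ι ≫ f) s' hs'' y
  refine ⟨U.ι ''ᵁ V, ⟨s' y, hyV, ?_⟩, ?_, ?_⟩
  · change U.ι (s' y) = _
    rw [← Scheme.Hom.comp_apply, hs']
  · rintro _ ⟨x, hx, rfl⟩
    exact x.2
  · rintro _ ⟨x, hx, rfl⟩
    exact sectionComponents_subset_preimage f s (U.ι ≫ f) s' U.ι (𝟙 Y) (by simp) (by simp [hs'])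
      hs'' (hV hx)

end Groth.Agent.Sga3.H778.SecNbhd
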