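import Groth.Agent.Sga3.H778.NeutralPts
import Groth.Agent.Sga3.H778.SecNbhd
import Groth.Agent.S0115
import Groth.Agent.S3025
import Groth.Agent.Sga3C.ClosedSub

/-!
# The neutral component of a group scheme which is smooth along the unit section

* `isOpen_neutralSet`;
* `smooth_neutral` : the open subscheme `G⁰` is smooth;
* `exists_openSubgroup` : if `G⁰` is open, it is the underlying set of an open subgroup scheme;
* `isConnected_fibre`: its fibres are connected.
-/

set_option autoImplicit false

universe u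

open CategoryTheory MonoidalCategory CartesianMonoidalCategory MonObj GrpObj AlgebraicGeometry Limits

namespace Groth.Agent.Sga3.H778.NeutralOpen

open Groth.Agent.Sga3C Groth.Agent.Sga3C.HomogIrr NeutralPts SecNbhd

variable {S : Scheme.{u}} (G : Over S)

/-- An open subscheme as an object over `S`. -/
noncomputable def opn (V : G.left.Opens) : Over S := Over.mk (V.ι ≫ G.hom)

/-- The inclusion of an open subscheme. -/
noncomputable def opnι (V : G.left.Opens) : opn G V ⟶ G := Over.homMk V.ι rfl

@[simp] lemma opnι_left (V : G.left.Opens) : (opnι G V).left = V.ι := rfl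

instance (V : G.left.Opens) : IsOpenImmersion (opnι G V).left :=
  inferInstanceAs (IsOpenImmersion V.ι)

instance (V : G.left.Opens) : Mono (opnι G V) :=
  (Over.forget S).mono_of_mono_map (inferInstanceAs (Mono V.ι))

variable {G} in
/-- A morphism over `S` factors through an open subscheme iff its range does. -/
lemma exists_lift (V : G.left.Opens) {T : Over S} (a : T ⟶ G) (h : ∀ t : T.left, a.left t ∈ V) :
    ∃ a' : T ⟶ opn G V, a' ≫ opnι G V = a := by
  have hr : Set.range a.left ⊆ Set.range V.ι := by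
    rw [Scheme.Opens.range_ι]
    rintro _ ⟨t, rfl⟩
    exact h t
  let k : T.left ⟶ (V : Scheme.{u}) := IsOpenImmersion.lift V.ι a.left hr
  have hk : k ≫ V.ι = a.left := IsOpenImmersion.lift_fac _ _ _
  refine ⟨Over.homMk k ?_, ?_⟩
  · change k ≫ V.ι ≫ G.hom = _
    rw [reassoc_of% hk]
    exact Over.w a
  · ext1
    exact hk

variable [GrpObj G]

/-- The product map of an open subscheme. -/
noncomputable def mulMap (V : G.left.Opens) : opn G V ⊗ opn G V ⟶ G :=
  (fst (opn G V) (opn G V) ≫ opnι G V) * (snd (opn G V) (opn G V) ≫ opnι G V)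

lemma mulMap_eq (V : G.left.Opens) : mulMap G V =
    (opn G V ◁ opnι G V) ≫ (GrpBasic.mulLeftShear (opnι G V)).hom ≫ snd (opn G V) G := by
  rw [GrpBasic.mulLeftShear_hom_snd, comp_mul, mulMap]
  simp

theorem smooth_mulMap (V : G.left.Opens) [h : Smooth (V.ι ≫ G.hom)] : Smooth (mulMap G V).left := by
  rw [mulMap_eq, Over.comp_left, Over.comp_left]
  have h1 : IsOpenImmersion (opn G V ◁ opnι G V).left :=
    MorphismProperty.of_isPullback (SchemImage.isPullback_whiskerLeft_left (opnι G V) (opn G V)).flip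
      (inferInstanceAs (IsOpenImmersion (opnι G V).left))
  have h2 : IsIso (GrpBasic.mulLeftShear (opnι G V)).hom.left :=
    inferInstanceAs (IsIso ((Over.forget _).map (GrpBasic.mulLeftShear (opnι G V)).hom))
  have h3 : Smooth (snd (opn G V) G).left := by
    rw [Over.snd_left]
    have : Smooth (opn G V).hom := h
    infer_instance
  infer_instance

/-- The product map of a smooth open subscheme contained in `G⁰` takes its values in `G⁰`. -/
lemma mulMap_mem (V : G.left.Opens) (hV : (V : Set G.left) ⊆ SGA3x.neutralSet G)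
    (w : (opn G V ⊗ opn G V).left) : (mulMap G V).left w ∈ SGA3x.neutralSet G := by
  refine mul_mem _ _ w ?_ ?_
  · rw [comp_left_apply]
    exact hV ((fst (opn G V) (opn G V)).left w).2
  · rw [comp_left_apply]
    exact hV ((snd (opn G V) (opn G V)).left w).2

/-- `G⁰` is covered by the product maps. -/
lemma exists_mulMap_eq (V : G.left.Opens) (x : G.left) (hx : x ∈ SGA3x.neutralSet G)
    (h1V : unitSec G (G.hom x) ∈ V) : ∃ w, (mulMap G V).left w = x := by
  obtain ⟨w, hw1, hw2, hw⟩ := exists_mul_eq x hx (V : Set G.left) V.isOpen h1V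
  have hr : w ∈ Set.range (opnι G V ⊗ₘ opnι G V).left := by
    rw [Over.tensorHom_left, Scheme.Pullback.range_map]
    refine ⟨?_, ?_⟩
    · change _ ∈ Set.range V.ι
      rw [Scheme.Opens.range_ι]; exact hw1
    · change _ ∈ Set.range V.ι
      rw [Scheme.Opens.range_ι]; exact hw2
  obtain ⟨v, rfl⟩ := hr
  refine ⟨v, ?_⟩
  rw [← hw, ← comp_left_apply, comp_mul]
  simp [mulMap]

/-- The unit section of a group scheme which is smooth along the unit section has neighbourhoods which are
smooth and contained in `G⁰`. -/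
theorem exists_unit_nhd (U : G.left.Opens) [Smooth (U.ι ≫ G.hom)] (hU : ∀ s, unitSec G s ∈ U) (s : S) :
    ∃ V : G.left.Opens, unitSec G s ∈ V ∧ Smooth (V.ι ≫ G.hom) ∧
      (V : Set G.left) ⊆ SGA3x.neutralSet G := by
  obtain ⟨V, h1, h2, h3⟩ := exists_nhd G.hom (unitSec G) (unitSec_hom G) U hU s
  refine ⟨V, h1, ?_, ?_⟩
  · refine smooth_of_range_subset G.hom U V.ι ?_
    rw [Scheme.Opens.range_ι]
    exact h2
  · rw [neutralSet_eq]
    exact h3

/-- Every point of `G⁰` has a smooth open neighbourhood contained in `G⁰`. -/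
theorem exists_open (U : G.left.Opens) [Smooth (U.ι ≫ G.hom)] (hU : ∀ s, unitSec G s ∈ U)
    (x : G.left) (hx : x ∈ SGA3x.neutralSet G) :
    ∃ P : G.left.Opens, x ∈ P ∧ Smooth (P.ι ≫ G.hom) ∧ (P : Set G.left) ⊆ SGA3x.neutralSet G := by
  obtain ⟨V, h1, h2, h3⟩ := exists_unit_nhd G U hU (G.hom x)
  have hsm := smooth_mulMap G V
  let P : G.left.Opens := ⟨Set.range (mulMap G V).left, (mulMap G V).left.isOpenMap.isOpen_range⟩
  refine ⟨P, exists_mulMap_eq G V x hx h1, ?_, ?_⟩
  · have hr : Set.range (mulMap G V).left ⊆ Set.range P.ι := by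
      rw [Scheme.Opens.range_ι]
      exact subset_rfl
    let m : (opn G V ⊗ opn G V).left ⟶ P := IsOpenImmersion.lift P.ι (mulMap G V).left hr
    have hm : m ≫ P.ι = (mulMap G V).left := IsOpenImmersion.lift_fac _ _ _
    have hms : Surjective m := by
      refine ⟨fun y ↦ ?_⟩
      obtain ⟨w, hw⟩ : P.ι y ∈ Set.range (mulMap G V).left := y.2
      refine ⟨w, P.ι.isOpenEmbedding.injective ?_⟩
      rw [← Scheme.Hom.comp_apply, hm]
      exact hw
    have hmsm : Smooth m := by
      have h4 : IsPullback m (𝟙 _) P.ι (m ≫ P.ι) :=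
        ⟨⟨by simp⟩, ⟨PullbackCone.IsLimit.mk _ (fun s ↦ s.snd)
          (fun s ↦ by rw [← cancel_mono P.ι, Category.assoc, ← s.condition])
          (fun s ↦ by simp) (fun s k _ hk ↦ by simpa using hk)⟩⟩
      have h5 : Smooth (m ≫ P.ι) := by rw [hm]; exact hsm
      exact MorphismProperty.of_isPullback h4.flip h5
    have hcomp : Smooth (m ≫ P.ι ≫ G.hom) := by
      rw [reassoc_of% hm, Over.w]
      have h6 : Smooth (opn G V).hom := h2
      change Smooth (pullback.fst (opn G V).hom (opn G V).hom ≫ (opn G V).hom)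
      infer_instance
    exact Groth.Agent.S0115.result m (P.ι ≫ G.hom)
  · rintro _ ⟨w, rfl⟩
    exact mulMap_mem G V h3 w

theorem isOpen_neutralSet (U : G.left.Opens) [Smooth (U.ι ≫ G.hom)]
    (hU : ∀ s, unitSec G s ∈ U) : IsOpen (SGA3x.neutralSet G) := by
  rw [isOpen_iff_forall_mem_open]
  intro x hx
  obtain ⟨P, h1, -, h3⟩ := exists_open G U hU x hx
  exact ⟨P, h3, P.isOpen, h1⟩

/-- The open subscheme `G⁰`. -/
noncomputable def neutral (h : IsOpen (SGA3x.neutralSet G)) : G.left.Opens := ⟨_, h⟩

theorem smooth_neutral (U : G.left.Opens) [Smooth (U.ι ≫ G.hom)]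
    (hU : ∀ s, unitSec G s ∈ U) (h : IsOpen (SGA3x.neutralSet G)) :
    Smooth ((neutral G h).ι ≫ G.hom) := by
  refine smooth_of_forall_exists _ fun x ↦ ?_
  obtain ⟨P, h1, h2, -⟩ := exists_open G U hU ((neutral G h).ι x) x.2
  refine ⟨(neutral G h).ι ⁻¹ᵁ P, h1, ?_⟩
  rw [← Category.assoc]
  refine smooth_of_range_subset G.hom P _ ?_
  rintro _ ⟨z, rfl⟩
  exact z.2

/-- If `G⁰` is open, it carries the structure of an open subgroup scheme. -/
theorem exists_grpObj (h : IsOpen (SGA3x.neutralSet G)) :
    ∃ _ : GrpObj (opn G (neutral G h)), IsMonHom (opnι G (neutral G h)) := by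
  apply ClosedSub.exists_grpObj_of_mono
  · refine exists_lift _ _ fun t ↦ ?_
    exact unitSec_mem t
  · have : (opnι G (neutral G h) ⊗ₘ opnι G (neutral G h)) ≫ μ[G] =
      (fst _ _ ≫ opnι G (neutral G h)) * (snd _ _ ≫ opnι G (neutral G h)) := by
      rw [Hom.mul_def]
      congr 1
    rw [this]
    refine exists_lift _ _ fun t ↦ ?_
    refine mul_mem _ _ t ?_ ?_
    · rw [comp_left_apply]
      exact ((fst (opn G (neutral G h)) (opn G (neutral G h))).left t).2
    · rw [comp_left_apply]
      exact ((snd (opn G (neutral G h)) (opn G (neutral G h))).left t).2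
  · have : opnι G (neutral G h) ≫ ι[G] = (opnι G (neutral G h))⁻¹ := by
      rw [Hom.inv_def]
    rw [this]
    refine exists_lift _ _ fun t ↦ ?_
    exact inv_mem _ t t.2

/-- The fibres of `G⁰` are connected. -/
theorem isConnected_fibre (h : IsOpen (SGA3x.neutralSet G)) (s : S) :
    _root_.IsConnected ((opn G (neutral G h)).hom ⁻¹' {s}) := by
  have hemb : Topology.IsInducing (neutral G h).ι := (neutral G h).ι.isOpenEmbedding.isInducing
  have himg : (neutral G h).ι '' ((opn G (neutral G h)).hom ⁻¹' {s}) =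
      connectedComponentIn (G.hom ⁻¹' {s}) (unitSec G s) := by
    ext x
    constructor
    · rintro ⟨y, hy, rfl⟩
      have h1 : (neutral G h).ι y ∈ SGA3x.neutralSet G := y.2
      rw [neutralSet_eq] at h1
      have h2 : G.hom ((neutral G h).ι y) = s := by
        rw [← Scheme.Hom.comp_apply]; exact hy
      change _ ∈ connectedComponentIn _ _ at h1
      rwa [h2] at h1
    · intro hx
      have h2' : x ∈ G.hom ⁻¹' {s} := connectedComponentIn_subset _ _ hx
      have h2 : G.hom x = s := h2'
      have h1 : x ∈ SGA3x.neutralSet G := by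
        rw [neutralSet_eq]
        change _ ∈ connectedComponentIn _ _
        rwa [h2]
      refine ⟨⟨x, h1⟩, ?_, rfl⟩
      exact h2
  have hconn : _root_.IsConnected ((neutral G h).ι '' ((opn G (neutral G h)).hom ⁻¹' {s})) := by
    refine himg ▸ ⟨⟨_, mem_connectedComponentIn (hom_unitSec G s)⟩, ?_⟩
    exact isPreconnected_connectedComponentIn
  exact ⟨hconn.1.of_image, hemb.isPreconnected_image.mp hconn.2⟩

theorem main (U : G.left.Opens) [Smooth (U.ι ≫ G.hom)] (hU : ∀ s, unitSec G s ∈ U) :
    IsOpen (SGA3x.neutralSet G) ∧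
    ∃ (G0 : Over S) (_ : GrpObj G0) (i : G0 ⟶ G), IsMonHom i ∧ IsOpenImmersion i.left ∧
      Set.range i.left = SGA3x.neutralSet G ∧ Smooth G0.hom ∧ QuasiCompact G0.hom := by
  have h := isOpen_neutralSet G U hU
  obtain ⟨hgrp, hmon⟩ := exists_grpObj G h
  have hsm : Smooth (opn G (neutral G h)).hom := smooth_neutral G U hU h
  refine ⟨h, opn G (neutral G h), hgrp, opnι G (neutral G h), hmon, inferInstance, ?_, hsm, ?_⟩
  · change Set.range (neutral G h).ι = _
    rw [Scheme.Opens.range_ι]
    rfl
  · exact (Groth.Agent.S3025.result S (opn G (neutral G h)) (isConnected_fibre G h)).2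

end Groth.Agent.Sga3.H778.NeutralOpen
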