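import Groth.Prelude.Def_SGA3x
import Groth.Agent.Flat2D.RatPointConn
import Groth.Agent.S0355
import Groth.Agent.Sga3C.HomogConn

/-!
# The union of the fibrewise neutral components of a group scheme: points

`G : Over S` a group scheme, `SGA3x.neutralSet G` the union `G⁰` of the connected components of the
unit in the fibres.

* `neutralSet_eq` : `neutralSet G` is the set of section components of the unit section;
* `preimage_neutralSet` : `G⁰` is compatible with base change (in the form `T ⊗ G`);
* `mul_mem`, `inv_mem` : `G⁰` is stable under products and inverses of points with values in fields;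
* `mul_left_mem`, `inv_left_mem` : the same for points of the schemes `G ⊗ G` and `G`;
* `exists_mul_eq` : a point of `G⁰` over `s` is a product of two points of any open set
  containing the unit of the fibre over `s`.
-/

set_option autoImplicit false

universe u

open CategoryTheory MonoidalCategory CartesianMonoidalCategory MonObj GrpObj AlgebraicGeometry Limits

namespace Groth.Agent.Sga3.H778.NeutralPts

open Groth.Agent.Sga3C Groth.Agent.Sga3C.HomogIrr

variable {S : Scheme.{u}} (G : Over S) [GrpObj G]

/-- The unit section as a morphism of schemes. -/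
noncomputable def unitSec : S ⟶ G.left := (η[G] : 𝟙_ (Over S) ⟶ G).left

lemma unitSec_hom : unitSec G ≫ G.hom = 𝟙 S := Over.w η[G]

lemma hom_unitSec (s : S) : G.hom (unitSec G s) = s := by
  rw [← Scheme.Hom.comp_apply, unitSec_hom]; rfl

theorem neutralSet_eq : SGA3x.neutralSet G = MoreMor.sectionComponents G.hom (unitSec G) := by
  ext x
  simp only [SGA3x.neutralSet, Set.mem_iUnion, MoreMor.sectionComponents]
  constructor
  · rintro ⟨p, hp⟩
    have h : x ∈ G.hom ⁻¹' {(𝟙_ (Over S)).hom p} := connectedComponentIn_subset _ _ hp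
    have h' : G.hom x = p := h
    subst h'
    exact hp
  · intro hx
    exact ⟨G.hom x, hx⟩

variable {G}

/-- The section `(𝟙, 1)` of `T ⊗ G`. -/
noncomputable def oneSec (T : Over S) (G : Over S) [GrpObj G] : T ⟶ T ⊗ G := lift (𝟙 T) 1

lemma isPullback_snd (T X : Over S) : IsPullback (snd T X).left (fst T X).left X.hom T.hom := by
  rw [Over.snd_left, Over.fst_left]
  exact (IsPullback.of_hasPullback T.hom X.hom).flip

/-- `G⁰` commutes with base change. -/
theorem preimage_neutralSet (T : Over S) : (snd T G).left ⁻¹' SGA3x.neutralSet G =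
    MoreMor.sectionComponents (fst T G).left (oneSec T G).left := by
  rw [neutralSet_eq]
  refine (Groth.Agent.Flat2D.RatPointConn.sectionComponents_baseChange G.hom (unitSec G)
    (unitSec_hom G) (fst T G).left (snd T G).left T.hom (isPullback_snd T G) (oneSec T G).left
    ?_ ?_).symm
  · rw [← Over.comp_left, oneSec, lift_fst]; rfl
  · rw [← Over.comp_left, oneSec, lift_snd, Hom.one_def, Over.comp_left]
    congr 1

/-- `G⁰` over a one-point base. -/
theorem preimage_neutralSet_of_subsingleton (T : Over S) [Subsingleton T.left] (t : T.left) :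
    (snd T G).left ⁻¹' SGA3x.neutralSet G = connectedComponent ((oneSec T G).left t) := by
  rw [preimage_neutralSet]
  ext x
  have h1 : (fst T G).left ⁻¹' {(fst T G).left x} = Set.univ :=
    Set.eq_univ_of_forall fun y ↦ Subsingleton.elim (α := T.left) _ _
  have h2 : (fst T G).left x = t := Subsingleton.elim (α := T.left) _ _
  change x ∈ connectedComponentIn _ _ ↔ _
  rw [h1, connectedComponentIn_univ, h2]

/-- The point of `T ⊗ G` defined by a `T`-point of `G` lies in `G⁰` iff the `T`-point does. -/
lemma lift_mem_iff (T : Over S) [Subsingleton T.left] (t : T.left) (g : T ⟶ G) :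
    (lift (𝟙 T) g).left t ∈ connectedComponent ((oneSec T G).left t) ↔
      g.left t ∈ SGA3x.neutralSet G := by
  rw [← preimage_neutralSet_of_subsingleton, Set.mem_preimage, snd_lift_apply]

lemma mul_mem_pt (T : Over S) [Subsingleton T.left] (t : T.left) (g h : T ⟶ G)
    (hg : g.left t ∈ SGA3x.neutralSet G) (hh : h.left t ∈ SGA3x.neutralSet G) :
    (g * h).left t ∈ SGA3x.neutralSet G := by
  rw [← lift_mem_iff] at hg hh ⊢
  let A := (GrpBasic.mulLeftShear g).hom
  have hA (a : T ⟶ G) : lift (𝟙 T) a ≫ A = lift (𝟙 T) (g * a) := by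
    ext1
    · simp [A]
    · rw [Category.assoc, GrpBasic.mulLeftShear_hom_snd, comp_mul]
      simp
  have h1 : A.left ((oneSec T G).left t) = (lift (𝟙 T) g).left t := by
    rw [← comp_left_apply, oneSec, hA, _root_.mul_one]
  have h2 := A.left.continuous.image_connectedComponent_subset ((oneSec T G).left t)
  rw [h1, ← connectedComponent_eq hg] at h2
  have h3 := h2 ⟨_, hh, rfl⟩
  rwa [← comp_left_apply, hA] at h3

lemma inv_mem_pt (T : Over S) [Subsingleton T.left] (t : T.left) (g : T ⟶ G)
    (hg : g.left t ∈ SGA3x.neutralSet G) : (g⁻¹).left t ∈ SGA3x.neutralSet G := by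
  rw [← lift_mem_iff] at hg ⊢
  let A := (GrpBasic.mulLeftShear g⁻¹).hom
  have hA (a : T ⟶ G) : lift (𝟙 T) a ≫ A = lift (𝟙 T) (g⁻¹ * a) := by
    ext1
    · simp [A]
    · rw [Category.assoc, GrpBasic.mulLeftShear_hom_snd, comp_mul]
      simp
  have h1 : A.left ((oneSec T G).left t) = (lift (𝟙 T) g⁻¹).left t := by
    rw [← comp_left_apply, oneSec, hA, _root_.mul_one]
  have h2 := A.left.continuous.image_connectedComponent_subset ((oneSec T G).left t)
  rw [h1] at h2
  have h3 := h2 ⟨_, hg, rfl⟩
  rw [← comp_left_apply, hA, inv_mul_cancel] at h3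
  change _ ∈ connectedComponent ((lift (𝟙 T) (1 : T ⟶ G)).left t)
  rw [← connectedComponent_eq h3]
  exact mem_connectedComponent

/-- `G⁰` is stable under products. -/
theorem mul_mem {W : Over S} (a b : W ⟶ G) (w : W.left) (ha : a.left w ∈ SGA3x.neutralSet G)
    (hb : b.left w ∈ SGA3x.neutralSet G) : (a * b).left w ∈ SGA3x.neutralSet G := by
  obtain ⟨t⟩ : Nonempty (ptObj W w).left := inferInstance
  have h (c : W ⟶ G) : (ptHom W w ≫ c).left t = c.left w := by
    rw [comp_left_apply, ptHom_apply]
  rw [← h] at ha hb ⊢
  rw [comp_mul]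
  exact mul_mem_pt _ t _ _ ha hb

/-- `G⁰` is stable under inverses. -/
theorem inv_mem {W : Over S} (a : W ⟶ G) (w : W.left) (ha : a.left w ∈ SGA3x.neutralSet G) :
    (a⁻¹).left w ∈ SGA3x.neutralSet G := by
  obtain ⟨t⟩ : Nonempty (ptObj W w).left := inferInstance
  have h (c : W ⟶ G) : (ptHom W w ≫ c).left t = c.left w := by
    rw [comp_left_apply, ptHom_apply]
  rw [← h] at ha ⊢
  rw [comp_inv]
  exact inv_mem_pt _ t _ ha

/-- `G⁰` contains the unit section. -/
theorem unitSec_mem (s : S) : unitSec G s ∈ SGA3x.neutralSet G := by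
  rw [neutralSet_eq]
  change _ ∈ connectedComponentIn _ _
  rw [hom_unitSec]
  exact mem_connectedComponentIn (hom_unitSec G s)

/-- Connected components of `T ⊗ G`, `T` the spectrum of a field, are irreducible. -/
theorem isPreirreducible_component (κ : Type u) [Field κ] (t : Spec (CommRingCat.of κ) ⟶ S)
    (q : (Over.mk t ⊗ G : Over S).left) : IsPreirreducible (connectedComponent q) := by
  let := Functor.grpObjObj (F := Over.pullback t) (G := G)
  let G' := (Over.pullback t).obj G
  let e : (Over.mk t ⊗ G : Over S).left ≅ G'.left := pullbackSymmetry t G.hom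
  let E : (Over.mk t ⊗ G : Over S).left ≃ₜ G'.left := e.hom.homeomorph
  have hqs : QuasiSeparatedSpace G'.left := Groth.Agent.Localalg.GrpSchComp2.quasiSeparatedSpace G'
  have h1 := HomogConn.isPreirreducible_connectedComponent (Transl.regular G')
    (Transl.surjective_regular G') (E q)
  have h4 : connectedComponent q = E.symm '' (connectedComponent (E q)) := by
    have h := E.image_connectedComponentIn (Set.mem_univ q)
    rw [Set.image_univ, E.surjective.range_eq] at h
    simp only [connectedComponentIn_univ] at h
    rw [← h, ← Set.image_comp]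
    simp
  rw [h4]
  exact h1.image _ E.symm.continuous.continuousOn

/-- A point `x` of `G⁰` over `s` is a product of two points of any given open set `V` which contains the unit
of the fibre over `s`. -/
theorem exists_mul_eq (x : G.left) (hx : x ∈ SGA3x.neutralSet G) (V : Set G.left) (hV : IsOpen V)
    (h1V : unitSec G (G.hom x) ∈ V) :
    ∃ w : (G ⊗ G : Over S).left, (fst G G).left w ∈ V ∧ (snd G G).left w ∈ V ∧
      (fst G G * snd G G).left w = x := by
  let T := ptObj G x
  let xT : T ⟶ G := ptHom G x
  obtain ⟨t⟩ : Nonempty T.left := inferInstance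
  let ρ : T ⊗ G ≅ T ⊗ G := (GrpBasic.invMulShear xT).symm
  have hρ : ρ.hom ≫ snd T G = (fst T G ≫ xT) * (snd T G)⁻¹ := by
    simp [ρ, GrpBasic.invMulShear]
  let s1 : (T ⊗ G).left := (oneSec T G).left t
  let sn : (T ⊗ G).left := (lift (𝟙 T) xT).left t
  have hmor : lift (𝟙 T) xT ≫ ρ.hom = oneSec T G := by
    ext1
    · simp [ρ, GrpBasic.invMulShear, oneSec]
    · rw [Category.assoc, hρ, oneSec]
      simp [MonObj.comp_mul, GrpObj.comp_inv]
  have hs1 : ρ.hom.left sn = s1 := by
    rw [← comp_left_apply, hmor]
  have hirr : IsPreirreducible (connectedComponent s1) :=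
    isPreirreducible_component (G.left.residueField x) T.hom s1
  have hsn : sn ∈ connectedComponent s1 := by
    rw [lift_mem_iff, ptHom_apply]
    exact hx
  have hs1V : (snd T G).left s1 ∈ V := by
    have h2 : (snd T G).left s1 = unitSec G (G.hom x) := by
      change (snd T G).left ((oneSec T G).left t) = _
      rw [← comp_left_apply, oneSec, lift_snd, Hom.one_def, comp_left_apply]
      have h3 : (toUnit T).left t = G.hom x := by
        have h4 : (toUnit T).left = T.hom := by
          simpa using Over.w (toUnit T)
        rw [h4]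
        change (G.left.fromSpecResidueField x ≫ G.hom) t = _
        rw [Scheme.Hom.comp_apply, Scheme.fromSpecResidueField_apply]
      rw [h3]
      rfl
    rw [h2]
    exact h1V
  obtain ⟨z, -, hz1, hz2⟩ := hirr ((snd T G).left ⁻¹' V) (ρ.hom.left ⁻¹' ((snd T G).left ⁻¹' V))
    (hV.preimage (snd T G).left.continuous)
    ((hV.preimage (snd T G).left.continuous).preimage ρ.hom.left.continuous)
    ⟨s1, mem_connectedComponent, hs1V⟩
    ⟨sn, hsn, by rw [Set.mem_preimage, hs1]; exact hs1V⟩
  refine ⟨(lift (ρ.hom ≫ snd T G) (snd T G)).left z, ?_, ?_, ?_⟩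
  · rw [← comp_left_apply, lift_fst, comp_left_apply]
    exact hz2
  · rw [← comp_left_apply, lift_snd]
    exact hz1
  · rw [← comp_left_apply, comp_mul, lift_fst, lift_snd, hρ, inv_mul_cancel_right,
      comp_left_apply, ptHom_apply]

end Groth.Agent.Sga3.H778.NeutralPts
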